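import Mathlib
import Cfsg.Agent.Lib.RootSub.QuadPair4

/-! Partner pairs of minimal quadratic elements: conjugacy of the partners of a fixed element, and of
the elements of a root subgroup over a finite field. -/

set_option autoImplicit false

namespace CfsgLib.EqZJ

open Cfsg CfsgLib.RootSub Polynomial

variable {k : Type*} [Field k] {M : Type*} [AddCommGroup M] [Module k M] [FiniteDimensional k M]

local notation "GLM" => LinearMap.GeneralLinearGroup k M
local notation "EM" => M →ₗ[k] M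

variable {G K : Subgroup (LinearMap.GeneralLinearGroup k M)} {a b b' x y z : M →ₗ[k] M}

omit [FiniteDimensional k M] in
theorem cj_mul (g h : GLM) (a : EM) : cj (g * h) a = cj g (cj h a) := by simp [cj_apply, mul_assoc]

/-- A pair of partners. -/
structure PP (G : Subgroup GLM) (a b : EM) : Prop where
  h2 : (2 : k) ≠ 0
  h3 : Nat.card k ≠ 3
  ma : Mn G a
  mb : Mn G b
  e1 : a * b * a = a
  e2 : b * a * b = b

namespace PP

omit [FiniteDimensional k M] in
theorem symm (h : PP G a b) : PP G b a := ⟨h.h2, h.h3, h.mb, h.ma, h.e2, h.e1⟩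

theorem cj (h : PP G a b) {g : GLM} (hg : g ∈ G) : PP G (cj g a) (cj g b) :=
  ⟨h.h2, h.h3, h.ma.cj hg, h.mb.cj hg, by rw [← map_mul, ← map_mul, h.e1], by rw [← map_mul, ← map_mul, h.e2]⟩

theorem opp (h : PP G a b) : Opp a b := opp_of_partner h.ma h.mb h.e1

omit [FiniteDimensional k M] in
theorem l (h : PP G a b) (hx : x ∈ eS G a) : a * b * x = x := by
  have := eS_mul_left hx (x := a * b - 1) (by rw [sub_mul, h.e1, one_mul, sub_self])
  rwa [sub_mul, one_mul, sub_eq_zero] at this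

omit [FiniteDimensional k M] in
theorem r (h : PP G a b) (hx : x ∈ eS G a) : x * b * a = x := by
  have := eS_mul_right hx (x := b * a - 1) (by rw [mul_sub, ← mul_assoc, h.e1, mul_one, sub_self])
  rwa [mul_sub, mul_one, sub_eq_zero, ← mul_assoc] at this

theorem part (h : PP G a b) (hx : x ∈ eS G a) (h0 : x ≠ 0) :
    ∃ y, PP G x y ∧ eS G x = eS G a ∧ eS G y = eS G b := by
  obtain ⟨y, hy, y0, e1, e2⟩ := h.opp.symm.partner h.h2 h.h3 h.mb h.ma hx h0
  exact ⟨y, ⟨h.h2, h.h3, (h.ma.of_eS hx h0).1, (h.mb.of_eS hy y0).1, e2, e1⟩, h.ma.eS_eq hx h0, h.mb.eS_eq hy y0⟩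

theorem div (h : PP G a b) (hx : x ∈ eS G a) (hz : z ∈ eS G a) (e : x * b * z = 0) : x = 0 ∨ z = 0 := by
  refine or_iff_not_imp_left.2 fun h0 => ?_
  obtain ⟨y, h1, -, h3⟩ := h.part hx h0
  have h4 := h1.symm.l (h3 ▸ h.mb.mem_eS)
  linear_combination (norm := noncomm_ring) -h.l hz - a * h4 * z + a * y * e

/-- The Weyl element. -/
def w (h : PP G a b) : GLM := qu a h.ma.sq * (qu b h.mb.sq)⁻¹ * qu a h.ma.sq

omit [FiniteDimensional k M] in
theorem w_mem (h : PP G a b) (h1 : EG G a ≤ K) (h2 : EG G b ≤ K) : h.w ∈ K :=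
  have := h1 (qu_mem_EG h.ma.mem_eS)
  mul_mem (mul_mem this (inv_mem (h2 (qu_mem_EG h.mb.mem_eS)))) this

omit [FiniteDimensional k M] in
theorem cj_w (h : PP G a b) (hy : y ∈ eS G b) : RootSub.cj h.w y = -(a * y * a) := by
  have h1 : (h.w : EM) * y = a * y := by
    simp only [w, Units.val_mul, qu_val, qu_inv_val]
    linear_combination (norm := noncomm_ring) -(1 + a) * h.symm.l hy - (1 + a) * eS_mul h.mb.mem_eS hy +
      h.ma.sq * y
  have h2 : y * ((h.w⁻¹ : GLM) : EM) = -(y * a) := by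
    simp only [w, mul_inv_rev, inv_inv, Units.val_mul, qu_val, qu_inv_val]
    linear_combination (norm := noncomm_ring) -h.symm.r hy * (1 - a) + eS_mul hy h.mb.mem_eS * (1 - a) +
      y * h.ma.sq
  rw [cj_apply, h1, mul_assoc, h2, mul_neg, mul_assoc]

theorem sq_mem (h : PP G a b) (hx : x ∈ eS G a) (hy : y ∈ eS G b) : x * y * x ∈ eS G a := by
  by_cases h0 : x = 0
  · simp [h0]
  obtain ⟨x', h1, h2, h3⟩ := h.part hx h0
  have := ((eS_qf hy).cj (h1.w_mem EG_le EG_le)).neg
  rw [h1.cj_w (h3 ▸ hy), neg_neg] at this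
  exact h2 ▸ mem_eS h1.ma.sq this (LinearMap.ker_le_ker_comp _ _) (LinearMap.range_comp_le_range (y * x) x)

theorem conj_sq (h : PP G a b) (h1 : EG G a ≤ K) (h2 : EG G b ≤ K) (hx : x ∈ eS G a) (h0 : x ≠ 0) :
    ∃ g ∈ K, RootSub.cj g a = x * b * x := by
  obtain ⟨x', h3, h4, h5⟩ := h.part hx h0
  refine ⟨h3.w * h.symm.w, mul_mem (h3.w_mem (fun g hg => h1 (by rwa [mem_EG, h4] at hg))
    fun g hg => h2 (by rwa [mem_EG, h5] at hg)) (h.symm.w_mem h2 h1), ?_⟩
  have e := h.symm.cj_w h.ma.mem_eS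
  have e' := h3.cj_w (h5 ▸ h.mb.mem_eS)
  rw [h.e2] at e
  rw [cj_mul, e, map_neg, e', neg_neg]

theorem cbc_mem (h : PP G a b) (h1 : a * b * x = x) (h2 : x * b * a = x) (h3 : Mn G ((1 + x) * b * (1 - x))) :
    x * b * x ∈ eS G a := by
  have hb := h.mb.sq
  by_cases h4 : b * ((1 + x) * b * (1 - x)) * b = 0
  · rw [show x * b * x = 0 by
      linear_combination (norm := noncomm_ring) -h1 * b * x - a * b * x * b * h2 - a * h4 * a +
        a * hb * (1 - x) * b * a + a * b * x * hb * a]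
    exact zero_mem _
  obtain ⟨y, hy, y0, e, -⟩ := (opp_of_ne h.h2 h.h3 h.mb h3 h4).partner h.h2 h.h3 h.mb h3 h3.mem_eS h3.ne
  obtain ⟨c, h5, -, h6⟩ := h.symm.part hy y0
  have hc : c ∈ eS G a := h6 ▸ h5.mb.mem_eS
  have h7 := h5.symm.l (h6 ▸ h.ma.mem_eS)
  have h8 := h5.symm.r (h6 ▸ h.ma.mem_eS)
  have h9 : y * (c + x * b * x) * y = 0 := by
    linear_combination (norm := noncomm_ring) h5.e1 - e + eS_mul hy h.mb.mem_eS * (1 - x) * y +
      y * x * eS_mul h.mb.mem_eS hy
  have h10 : a * b * (c + x * b * x) = c + x * b * x := by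
    linear_combination (norm := noncomm_ring) h.l hc + h1 * b * x
  have h11 : (c + x * b * x) * b * a = c + x * b * x := by
    linear_combination (norm := noncomm_ring) h.r hc + x * b * h2
  generalize hz : c + x * b * x = z at h9 h10 h11
  have h12 : c * y * z = z := by
    linear_combination (norm := noncomm_ring) h10 - c * y * h10 + h7 * b * z
  have h13 : z = 0 := by
    linear_combination (norm := noncomm_ring) c * h9 * c - h12 * y * c - h11 + h11 * y * c - z * b * h8
  rw [eq_neg_of_add_eq_zero_right (hz.trans h13)]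
  exact neg_mem hc

theorem conj_of_eps (h : PP G a b) (h' : PP G a b') (e : a * b + b * a = a * b' + b' * a) :
    ∃ g ∈ EG G a, RootSub.cj g b = b' := by
  have ha := h.ma.sq
  have h1 : a * b * ((b' - b) * a) = (b' - b) * a := by
    linear_combination (norm := noncomm_ring) e - a * b * e + h.e1 * b - h.e1 * b'
  have h2 : (b' - b) * a * b * a = (b' - b) * a := by
    linear_combination (norm := noncomm_ring) (b' - b) * h.e1
  have h3 : (1 + (b' - b) * a) * b * (1 - (b' - b) * a) = b' := by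
    linear_combination (norm := noncomm_ring) -h.e2 * (1 - (b' - b) * a) - b' * h1 + b' * e + h'.e2
  have h0 : a * ((b' - b) * a) = 0 := by
    linear_combination (norm := noncomm_ring) h'.e1 - h.e1
  have h0' : (b' - b) * a * a = 0 := by rw [mul_assoc, ha, mul_zero]
  generalize (b' - b) * a = c at h0 h0' h1 h2 h3
  have h4 := h.cbc_mem h1 h2 (h3 ▸ h'.mb)
  have h5 := h.cbc_mem (x := c + a) (by rw [mul_add, h1, h.e1]) (by rw [add_mul, add_mul, h2, h.e1]) (by
    convert h'.mb.cj h.ma.qu_mem using 1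
    rw [cj_qu, ← h3]
    linear_combination (norm := noncomm_ring) -h0 * b * (1 - c) * (1 - a) - (1 + (c + a)) * b * h0')
  have h6 := (eS G a).smul_mem (2 : k)⁻¹ (sub_mem (sub_mem h5 h4) h.ma.mem_eS)
  rw [show (c + a) * b * (c + a) - c * b * c - a = (2 : k) • c by
    rw [two_smul]; linear_combination (norm := noncomm_ring) h1 + h2 + h.e1, inv_smul_smul₀ h.h2] at h6
  exact ⟨_, qu_mem_EG h6, h3⟩

omit [FiniteDimensional k M] in
theorem w_sq (h : PP G a b) : ((h.w * h.w : GLM) : EM) = 1 - 2 * (a * b + b * a) :=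
  weyl_sq h.ma.sq h.mb.sq h.e1 h.e2

omit [FiniteDimensional k M] in
theorem w_four (h : PP G a b) : h.w * h.w * (h.w * h.w) = 1 := Units.ext (by
  rw [Units.val_mul, h.w_sq, Units.val_one]
  linear_combination (norm := noncomm_ring) 4 * eps_idem h.ma.sq h.mb.sq h.e1 h.e2)

theorem conj_partner {p : ℕ} [hp : Fact p.Prime] [CharP k p] (h : PP G a b) (h' : PP G a b') (hK : K ≤ G)
    (h1 : EG G a ≤ K) (h2 : EG G b ≤ K) (h3 : EG G b' ≤ K) :
    ∃ g ∈ K, RootSub.cj g a = a ∧ RootSub.cj g b = b' := by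
  have ha := h.ma.sq
  have i1 := h.w_sq
  have i2 := h'.w_sq
  have i3 := h.w_four
  have m1 := mul_mem (h.w_mem h1 h2) (h.w_mem h1 h2)
  have m2 := mul_mem (h'.w_mem h1 h3) (h'.w_mem h1 h3)
  have i4 := h'.w_four
  generalize h.w * h.w = i at i1 i3 m1
  generalize h'.w * h'.w = j at i2 i4 m2
  have e1 : a * (((i * j : GLM) : EM) - 1) = 0 := by
    rw [Units.val_mul, i1, i2]
    linear_combination (norm := noncomm_ring) -2 * ha * b * (1 - 2 * (a * b' + b' * a)) -
      2 * h.e1 * (1 - 2 * (a * b' + b' * a)) + 2 * ha * b' + 2 * h'.e1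
  have e2 : (((i * j : GLM) : EM) - 1) * a = 0 := by
    rw [Units.val_mul, i1, i2]
    linear_combination (norm := noncomm_ring) -2 * (1 - 2 * (a * b + b * a)) * b' * ha -
      2 * (1 - 2 * (a * b + b * a)) * h'.e1 + 2 * b * ha + 2 * h.e1
  have e3 : (((i * j : GLM) : EM) - 1) * (1 - b * a) = a * (2 * b' * (1 - b * a) - 2 * b) := by
    rw [Units.val_mul, i1, i2]
    linear_combination (norm := noncomm_ring) 2 * a * h.mb.sq * a + 2 * b * h.e1 + 2 * b' * h.e1 -
      4 * (a * b + b * a) * b' * h.e1 + 4 * h.e1 * b' * (1 - b * a) + 4 * b * ha * b' * (1 - b * a)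
  have e4 : (((i * j : GLM) : EM) - 1) ^ 3 = 0 := by
    generalize ((i * j : GLM) : EM) - 1 = n at e1 e2 e3
    linear_combination (norm := noncomm_ring) n * e3 * n + n * n * b * e1 + e2 * (2 * b' * (1 - b * a) - 2 * b) * n
  have hp2 : p ≠ 2 := by rintro rfl; exact h.h2 (CharP.cast_eq_zero k 2)
  have : Nontrivial EM := ⟨_, _, h.ma.ne⟩
  have : CharP EM p := charP_of_injective_algebraMap (algebraMap k EM).injective p
  have e5 : (i * j) ^ p = 1 := Units.ext (by
    rw [Units.val_pow_eq_pow_val, ← add_sub_cancel 1 ((i * j : GLM) : EM), add_pow_char_of_commute _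
      (Commute.one_left _), pow_eq_zero_of_le (by have := hp.out.two_le; omega) e4]; simp)
  obtain ⟨m, hm⟩ := hp.out.odd_of_ne_two hp2
  have e6 : ((i * j) ^ (m + 1))⁻¹ * i * (i * j) ^ (m + 1) = j := by
    have : SemiconjBy i (i * j) (i * j)⁻¹ := by
      rw [SemiconjBy, mul_inv_rev, inv_eq_of_mul_eq_one_right i3, inv_eq_of_mul_eq_one_right i4, ← mul_assoc,
        mul_assoc j, i3, one_mul, mul_one]
    rw [← inv_pow, ← (this.pow_right _).eq, mul_assoc, ← pow_add,
      show m + 1 + (m + 1) = p + 1 by omega, pow_succ, e5, one_mul, ← mul_assoc, i3, one_mul]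
  have e7 : RootSub.cj ((i * j) ^ (m + 1))⁻¹ a = a := by
    have : Commute a ((i * j : GLM) : EM) := by
      rw [Commute, SemiconjBy]; linear_combination (norm := noncomm_ring) e1 - e2
    rw [cj_apply, inv_inv, Units.val_pow_eq_pow_val, mul_assoc, (this.pow_right _).eq, ← mul_assoc,
      ← Units.val_pow_eq_pow_val, Units.inv_mul, one_mul]
  have m3 := inv_mem (pow_mem (mul_mem m1 m2) (m + 1))
  generalize (i * j) ^ (m + 1) = s at e6 e7 m3
  have h4 := h.cj (hK m3)
  rw [e7] at h4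
  obtain ⟨g, hg, e⟩ := h4.conj_of_eps h' (by
    have := congrArg (RootSub.cj s⁻¹) i1
    rw [cj_apply, inv_inv, ← Units.val_mul, ← Units.val_mul, e6, i2, map_sub, map_one, map_mul, map_ofNat, map_add,
      map_mul, map_mul, e7, sub_right_inj, two_mul, two_mul, ← two_smul k, ← two_smul k] at this
    exact (smul_right_injective _ h.h2 this).symm)
  refine ⟨g * s⁻¹, mul_mem (h1 hg) m3, ?_, by rw [cj_mul, e]⟩
  obtain ⟨c, hc, rfl⟩ := mem_EG'.1 hg
  have : RootSub.cj (qu c (eS_qf hc).sq) a = a := by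
    rw [cj_qu]
    linear_combination (norm := noncomm_ring) eS_mul hc h.ma.mem_eS * (1 - c) - eS_mul h.ma.mem_eS hc
  rw [cj_mul, e7, this]

theorem anti [Finite EM] (h : PP G a b) (hx : x ∈ eS G a) (hy : y ∈ eS G a) (e : x * b * y + y * b * x = 0) :
    x = 0 ∨ y = 0 := by
  by_contra! h0
  have hb := h.mb.mem_eS
  have tri : ∀ u ∈ eS G a, ∀ z ∈ eS G a, u * b * z * b * u ∈ eS G a := fun u hu z hz => by
    simpa only [mul_assoc] using h.sq_mem hu (h.symm.sq_mem hb hz)
  let S : Set EM := {x * b * (x * b), y * b * (y * b)}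
  have hc : ∀ u ∈ ({x * b, y * b, a * b} : Set EM), ∀ v ∈ S, Commute u v := by
    have := h.l hx
    have := h.l hy
    have := h.r hx
    have := h.r hy
    simp only [S, Set.mem_insert_iff, Set.mem_singleton_iff, forall_eq_or_imp, forall_eq, Commute, SemiconjBy]
    refine ⟨⟨by noncomm_ring, ?_⟩, ⟨?_, by noncomm_ring⟩, ?_, ?_⟩
    · linear_combination (norm := noncomm_ring) e * b * y * b - y * b * e * b
    · linear_combination (norm := noncomm_ring) e * b * x * b - x * b * e * b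
    · linear_combination (norm := noncomm_ring) h.l hx * b * x * b - x * b * h.r hx * b
    · linear_combination (norm := noncomm_ring) h.l hy * b * y * b - y * b * h.r hy * b
  have hc' : ∀ u ∈ ({x * b, y * b, a * b} : Set EM), ∀ l ∈ Algebra.adjoin k S, u * l = l * u := fun u hu l hl =>
    Algebra.commute_of_mem_adjoin_of_forall_mem_commute hl (hc u hu)
  have cx := hc' _ (.inl rfl)
  have cy := hc' _ (.inr (.inl rfl))
  have ca := hc' _ (.inr (.inr rfl))
  have key : ∀ (s t : k), ∀ l ∈ Algebra.adjoin k S, ∀ z ∈ eS G a, x * b * z = s • (z * b * x) →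
      y * b * z = t • (z * b * y) → l * z ∈ eS G a := fun s t l hl => by
    induction hl using Algebra.adjoin_induction with
    | mem l hl =>
      intro z hz h1 h2
      rcases hl with rfl | rfl
      · rw [mul_assoc, h1, mul_smul_comm]
        exact (eS G a).smul_mem _ (by simpa only [mul_assoc] using tri _ hx _ hz)
      · rw [mul_assoc, h2, mul_smul_comm]
        exact (eS G a).smul_mem _ (by simpa only [mul_assoc] using tri _ hy _ hz)
    | algebraMap r => exact fun z hz _ _ => Algebra.smul_def r z ▸ (eS G a).smul_mem _ hz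
    | add l l' _ _ h1 h2 => exact fun z hz h3 h4 => add_mul l l' z ▸ add_mem (h1 z hz h3 h4) (h2 z hz h3 h4)
    | mul l l' _ hl h1 h2 =>
      refine fun z hz h3 h4 => mul_assoc l l' z ▸ h1 _ (h2 z hz h3 h4) ?_ ?_
      · rw [← mul_assoc, cx _ hl, mul_assoc, h3, mul_smul_comm, mul_assoc l', mul_assoc l']
      · rw [← mul_assoc, cy _ hl, mul_assoc, h4, mul_smul_comm, mul_assoc l', mul_assoc l']
  have ka := fun l hl => key 1 1 l hl a h.ma.mem_eS (by rw [h.r hx, h.l hx, one_smul]) (by rw [h.r hy, h.l hy, one_smul])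
  have kx := fun l hl => key 1 (-1) l hl x hx (by rw [one_smul]) (by
    rw [neg_one_smul]; exact eq_neg_of_add_eq_zero_right e)
  have : IsMulCommutative (Algebra.adjoin k S) := Algebra.isMulCommutative_adjoin k (by
    rintro _ (rfl | rfl) v hv
    exacts [((hc _ (.inl rfl) v hv).mul_left (hc _ (.inl rfl) v hv)).eq,
      ((hc _ (.inr (.inl rfl)) v hv).mul_left (hc _ (.inr (.inl rfl)) v hv)).eq])
  let _ : CommRing (Algebra.adjoin k S) := by open scoped IsMulCommutative in exact inferInstance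
  let I : Ideal (Algebra.adjoin k S) := ⟨⟨⟨{l | (l : EM) * a = 0}, fun {l l'} h1 h2 => by
    change (l + l' : EM) * a = 0
    rw [add_mul, h1, h2, add_zero]⟩, zero_mul a⟩, fun l l' h1 => by
    change (l * l' : EM) * a = 0
    rw [mul_assoc, h1, mul_zero]⟩
  have : I.IsPrime := ⟨(Ideal.ne_top_iff_one I).2 fun h1 => h.ma.ne ((one_mul a).symm.trans h1), fun {l l'} h1 =>
    h.div (ka _ l.2) (ka _ l'.2) (by
      have h2 : (l * l' : EM) * a = 0 := h1
      linear_combination (norm := noncomm_ring) l.1 * ca _ l'.2 * a + h2 * b * a)⟩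
  have : Finite (Algebra.adjoin k S ⧸ I) := Finite.of_surjective _ Ideal.Quotient.mk_surjective
  have := Fintype.ofFinite (Algebra.adjoin k S ⧸ I)
  let X0 : Algebra.adjoin k S := ⟨_, Algebra.subset_adjoin (.inl rfl)⟩
  let Y0 : Algebra.adjoin k S := ⟨_, Algebra.subset_adjoin (.inr rfl)⟩
  have hX : Ideal.Quotient.mk I X0 ≠ 0 := fun h1 => by
    have h2 : x * b * (x * b) * a = 0 := Ideal.Quotient.eq_zero_iff_mem.1 h1
    exact (h.div hx hx (by linear_combination (norm := noncomm_ring) h2 - x * b * h.r hx)).elim h0.1 h0.1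
  have hodd : Fintype.card (Algebra.adjoin k S ⧸ I) % 2 = 1 := by
    by_contra h1
    obtain ⟨t, ht⟩ := exists_prime_addOrderOf_dvd_card (G := Algebra.adjoin k S ⧸ I) 2 (by omega)
    have h2 : Ideal.Quotient.mk I 2 = 0 := by
      rw [map_ofNat]
      refine (mul_eq_zero.1 ?_).resolve_right (fun h => by simp [h] at ht : t ≠ 0)
      rw [two_mul, ← two_nsmul, ← ht, addOrderOf_nsmul_eq_zero]
    have h3 : (2 : EM) * a = 0 := Ideal.Quotient.eq_zero_iff_mem.1 h2
    rw [two_mul, ← two_smul k] at h3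
    exact h.ma.ne ((smul_eq_zero.1 h3).resolve_left h.h2)
  obtain ⟨u, v, h1⟩ := FiniteField.exists_root_sum_quadratic
    (degree_quadratic (b := 0) (c := Ideal.Quotient.mk I Y0) hX)
    (degree_quadratic (a := -1) (b := 0) (c := 0) (neg_ne_zero.2 one_ne_zero)) hodd
  obtain ⟨u, rfl⟩ := Ideal.Quotient.mk_surjective u
  obtain ⟨v, rfl⟩ := Ideal.Quotient.mk_surjective v
  have h2 : Ideal.Quotient.mk I (X0 * u * u + Y0 - v * v) = 0 := by
    simp only [map_add, map_sub, map_mul]
    simp only [eval_add, eval_mul, eval_C, eval_pow, eval_X] at h1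
    linear_combination h1
  have h3 : (x * b * (x * b) * u * u + y * b * (y * b) - v * v) * a = 0 := Ideal.Quotient.eq_zero_iff_mem.1 h2
  have huv : (u * v : EM) = v * u := congrArg Subtype.val (mul_comm u v)
  obtain ⟨u, hu⟩ := u
  obtain ⟨v, hv⟩ := v
  have fin : ∀ s t : EM, s ∈ Algebra.adjoin k S → t ∈ Algebra.adjoin k S → y ≠ s * a + t * x := fun s t hs ht h4 => by
    have h5 : x * b * y = y * b * x := by
      rw [h4]
      linear_combination (norm := noncomm_ring) cx _ hs * a + s * h.r hx - s * h.l hx + cx _ ht * x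
    rw [← h5, ← two_smul k] at e
    exact (h.div hx hy ((smul_eq_zero.1 e).resolve_left h.h2)).elim h0.1 h0.2
  rcases h.div (add_mem (add_mem (ka _ hv) (kx _ hu)) hy) (sub_mem (sub_mem (ka _ hv) (kx _ hu)) hy) (by
    linear_combination (norm := noncomm_ring) v * ca _ hv * a + v * v * h.e1 - v * ca _ hu * x - v * u * h.l hx -
      v * h.l hy + u * cx _ hv * a + u * v * h.r hx - u * cx _ hu * x - u * e + cy _ hv * a + v * h.r hy -
      cy _ hu * x - h3 + y * b * h.r hy + huv * x + x * b * cx _ hu * u * a + cx _ hu * x * b * u * a +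
      u * x * b * cx _ hu * a + u * cx _ hu * x * b * a + u * u * x * b * h.r hx) with h4 | h4
  · exact fin (-v) (-u) (neg_mem hv) (neg_mem hu) (by linear_combination (norm := noncomm_ring) h4)
  · exact fin v (-u) hv (neg_mem hu) (by linear_combination (norm := noncomm_ring) -h4)

theorem card_le [Finite EM] (h : PP G a b) :
    ((eS G a : Set EM) \ {0}).ncard ≤ 2 * ((fun x => x * b * x) '' ((eS G a : Set EM) \ {0})).ncard := by
  classical
  rw [Set.ncard_eq_toFinset_card, Set.ncard_eq_toFinset_card, Set.Finite.toFinset_image _ (Set.toFinite _)]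
  refine Finset.card_le_mul_card_image _ _ fun _ hz => ?_
  obtain ⟨x, hx, rfl⟩ := Finset.mem_image.1 hz
  refine (Finset.card_le_card (t := {x, -x}) fun y hy => ?_).trans Finset.card_le_two
  simp only [Set.Finite.mem_toFinset, Finset.mem_filter] at hx hy
  have := h.anti (sub_mem hy.1.1 hx.1) (add_mem hy.1.1 hx.1) (by linear_combination (norm := noncomm_ring) 2 * hy.2)
  simpa only [Finset.mem_insert, Finset.mem_singleton, sub_eq_zero, add_eq_zero_iff_eq_neg] using this

theorem exists_conj [Finite EM] (h : PP G a b) (h1 : EG G a ≤ K) (h2 : EG G b ≤ K) {x : Fin 3 → EM}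
    (hx : ∀ i, x i ∈ eS G a) (h0 : ∀ i, x i ≠ 0) : ∃ i j, i ≠ j ∧ ∃ g ∈ K, RootSub.cj g (x i) = x j := by
  by_contra! hn
  choose y hy e1 e2 using fun i => h.part (hx i) (h0 i)
  let O : Fin 3 → Set EM := fun i => (fun z => z * y i * z) '' ((eS G a : Set EM) \ {0})
  have h3 : ∀ i, ∀ z ∈ O i, ∃ g ∈ K, RootSub.cj g (x i) = z := by
    rintro i _ ⟨z, hz, rfl⟩
    exact (hy i).conj_sq (fun g hg => h1 (by rwa [mem_EG, e1] at hg)) (fun g hg => h2 (by rwa [mem_EG, e2] at hg))
      (e1 i ▸ hz.1) hz.2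
  have h4 : ∀ i j, i ≠ j → Disjoint (O i) (O j) := fun i j hij => Set.disjoint_left.2 fun z hi hj => by
    obtain ⟨g, hg, e⟩ := h3 i z hi
    obtain ⟨g', hg', e'⟩ := h3 j z hj
    exact hn i j hij _ (mul_mem (inv_mem hg') hg) (by rw [cj_mul, e, ← e', cj_inv_cj])
  have h5 : ∀ i, O i ⊆ (eS G a : Set EM) \ {0} := by
    rintro i _ ⟨z, hz, rfl⟩
    exact ⟨h.sq_mem hz.1 (e2 i ▸ (hy i).mb.mem_eS), fun e =>
      ((hy i).div (e1 i ▸ hz.1) (e1 i ▸ hz.1) e).elim hz.2 hz.2⟩
  have h6 : ∀ i, _ ≤ 2 * (O i).ncard := fun i => by simpa only [e1] using (hy i).card_le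
  have h7 := Set.ncard_le_ncard (Set.union_subset (Set.union_subset (h5 0) (h5 1)) (h5 2))
  rw [Set.ncard_union_eq (Set.disjoint_union_left.2 ⟨h4 0 2 (by simp), h4 1 2 (by simp)⟩),
    Set.ncard_union_eq (h4 0 1 (by simp))] at h7
  have h8 : 0 < ((eS G a : Set EM) \ {0}).ncard := (Set.ncard_pos).2 ⟨a, h.ma.mem_eS, h.ma.ne⟩
  have := h6 0
  have := h6 1
  have := h6 2
  omega

end PP

end CfsgLib.EqZJ
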