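import Mathlib
import Cfsg.Agent.Lib.EqZJ.Pair
import Cfsg.Agent.Lib.Coprime.Glauberman
import Cfsg.Agent.Lib.FT.OddOrder

/-! A coprime operator group on a linear group with quadratic elements centralises an image of `SL₂(p)`. -/

set_option autoImplicit false

namespace CfsgLib.EqZJ

open Cfsg CfsgLib.RootSub CfsgLib.SL2 Subgroup
open scoped MatrixGroups

theorem exists_diag {Γ S : Type*} [Group Γ] [Group S] {A K N : Subgroup Γ} [Finite A] (φ : S →* Γ) (hK : ∀ s, φ s ∈ K)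
    (h : ∀ g ∈ A, (∀ s, g * φ s * g⁻¹ = φ s) ∨ ∀ s, ∀ y ∈ K, Commute y (g * φ s * g⁻¹))
    (hN : ∀ g ∈ A, ∀ s, g * φ s * g⁻¹ ∈ N) :
    ∃ Φ : S →* Γ, Φ.range ≤ N ⊓ centralizer A ∧ ∀ s, Φ s = 1 → ∀ y ∈ K, Commute y (φ s) := by
  classical
  let ψ : Γ → S →* Γ := fun g => (MulAut.conj g).toMonoidHom.comp φ
  have hψ : ∀ g s, ψ g s = g * φ s * g⁻¹ := fun _ _ => rfl
  have := Fintype.ofFinite A
  let O : Finset (S →* Γ) := Finset.univ.image fun g : A => ψ g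
  have hO : ∀ f, f ∈ O ↔ ∃ g ∈ A, ψ g = f := fun f => by simp [O]
  have hc : Pairwise fun f f' : O => ∀ s t, Commute (f.1 s) (f'.1 t) := by
    rintro ⟨_, h1⟩ ⟨_, h2⟩ hne s t
    obtain ⟨g, hg, rfl⟩ := (hO _).1 h1
    obtain ⟨g', hg', rfl⟩ := (hO _).1 h2
    rcases h _ (mul_mem (inv_mem hg) hg') with h3 | h3
    · refine (hne (Subtype.ext (MonoidHom.ext fun s => ?_))).elim
      rw [hψ, hψ]
      conv_lhs => rw [← h3 s]
      group
    · convert (h3 t _ (hK s)).map (MulAut.conj g) using 1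
      · rfl
      · rw [hψ, MulAut.conj_apply]; group
  let Φ := (MonoidHom.noncommPiCoprod (N := fun _ : O => S) (fun f => f.1) hc).comp (Pi.constMonoidHom O S)
  have hc' : ∀ s, ((Finset.univ : Finset O) : Set O).Pairwise (Function.onFun Commute fun f : O => f.1 s) :=
    fun s _ _ _ _ h => hc h _ _
  have hΦ : ∀ s, Φ s = Finset.univ.noncommProd (fun f : O => f.1 s) (hc' s) := fun _ => rfl
  refine ⟨Φ, ?_, fun s hs y hy => ?_⟩
  · rintro _ ⟨s, rfl⟩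
    refine ⟨hΦ s ▸ Subgroup.noncommProd_mem _ _ fun ⟨f, hf⟩ _ => ?_, fun g hg => ?_⟩
    · obtain ⟨g, hg, rfl⟩ := (hO _).1 hf
      exact hN g hg s
    have h1 : ∀ g ∈ A, ∀ f ∈ O, (MulAut.conj g).toMonoidHom.comp f ∈ O := fun g hg f hf => by
      obtain ⟨g', hg', rfl⟩ := (hO _).1 hf
      exact (hO _).2 ⟨_, mul_mem hg hg', MonoidHom.ext fun s => by simp [hψ, mul_assoc]⟩
    let e : O ≃ O := ⟨fun f => ⟨_, h1 g hg _ f.2⟩, fun f => ⟨_, h1 _ (inv_mem hg) _ f.2⟩,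
      fun f => Subtype.ext (MonoidHom.ext fun s => by simp [mul_assoc]),
      fun f => Subtype.ext (MonoidHom.ext fun s => by simp [mul_assoc])⟩
    rw [← mul_inv_eq_iff_eq_mul, ← MulAut.conj_apply, hΦ, Finset.map_noncommProd]
    unfold Finset.noncommProd
    congr 1
    conv_rhs => rw [← Multiset.map_univ_val_equiv e, Multiset.map_map]
    rfl
  · have h1 : φ ∈ O := (hO _).2 ⟨1, one_mem _, MonoidHom.ext fun s => by simp [hψ]⟩
    rw [hΦ, ← Finset.mul_noncommProd_erase _ (Finset.mem_univ (⟨φ, h1⟩ : O))] at hs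
    rw [eq_inv_of_mul_eq_one_left hs]
    refine (Finset.noncommProd_commute _ _ _ _ fun ⟨f, hf⟩ h2 => ?_).inv_right
    obtain ⟨g, hg, rfl⟩ := (hO _).1 hf
    exact (h g hg).elim (fun h3 => (Finset.ne_of_mem_erase h2 (Subtype.ext (MonoidHom.ext h3))).elim) fun h3 => h3 s y hy

theorem exists_fixed {Γ X : Type*} [Group Γ] [Finite Γ] [MulAction Γ X] {A K : Subgroup Γ}
    (hA : A ≤ normalizer K) (hc : (Nat.card A).Coprime (Nat.card K)) (h2 : 2 ∣ Nat.card K) {Ω : Set X}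
    (hΩ : ∀ g ∈ A, ∀ x ∈ Ω, g • x ∈ Ω) (h : ∀ x : Fin 3 → X, (∀ i, x i ∈ Ω) → ∃ i j, i ≠ j ∧ ∃ g ∈ K, g • x i = x j)
    {x : X} (hx : x ∈ Ω) : ∃ k ∈ K, ∀ g ∈ A, g • k • x = k • x := by
  refine Coprime.exists_fixed_in_orbit hA hc (FT.solvable_or_of_coprime hc) x fun g hg => ?_
  obtain ⟨i, j, hij, y, hy, e⟩ := h (fun i => g ^ (i : ℤ) • x) fun i => hΩ _ (zpow_mem hg _) x hx
  have h3 : g ^ ((j : ℤ) - i) ∈ K ⊔ normalizer K ⊓ MulAction.stabilizer Γ x := by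
    have h4 := inv_mem (Coprime.conj_mem_of_le_normalizer' hA (zpow_mem hg (i : ℤ)) hy)
    refine (mul_mem_cancel_left (mem_sup_left h4)).1 (mem_sup_right
      ⟨mul_mem (le_normalizer h4) (hA (zpow_mem hg _)), ?_⟩)
    change _ • x = x
    rw [mul_smul, inv_smul_eq_iff, sub_eq_neg_add, zpow_add, zpow_neg, mul_smul, ← e, mul_smul, mul_smul]
  have h4 : ¬ 2 ∣ orderOf g := fun h => by simpa using Nat.eq_one_of_dvd_coprimes hc (h.trans (A.orderOf_dvd_natCard hg)) h2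
  have h5 : g ∈ zpowers (g ^ ((j : ℤ) - i)) := mem_zpowers_zpow_iff.2 (by
    have h6 : Int.gcd 2 (orderOf g) = 1 := (Nat.prime_two.coprime_iff_not_dvd).2 h4
    refine Int.isCoprime_iff_gcd_eq_one.1 ((Int.isCoprime_iff_gcd_eq_one.2 h6).of_isCoprime_of_dvd_left ?_)
    exact (by decide : ∀ i j : Fin 3, i ≠ j → (j : ℤ) - i ∣ 2) i j hij)
  obtain ⟨c, hc, s, hs, rfl⟩ := (Coprime.mem_sup_iff_of_le_normalizer inf_le_left).1 (zpowers_le.2 h3 h5)
  exact ⟨c, hc, by rw [mul_smul, hs.2]⟩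

variable {k : Type*} [Field k] {M : Type*} [AddCommGroup M] [Module k M] [FiniteDimensional k M]

local notation "GLM" => LinearMap.GeneralLinearGroup k M
local notation "EM" => M →ₗ[k] M
local notation "Sg" => quadraticRootSubgroups

variable {G A N : Subgroup (LinearMap.GeneralLinearGroup k M)}

theorem cmp_cj {B C : Subgroup GLM} (h : B ∈ cmp (Sg G) C) {g : GLM} (hg : g ∈ G) :
    conjBy B g ∈ cmp (Sg G) (conjBy C g) := by
  refine ⟨conj_Sig h.1 hg, ?_⟩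
  obtain ⟨-, h⟩ := h
  induction h with
  | refl => exact .refl
  | tail _ h1 ih => exact ih.tail ⟨conj_Sig h1.1 hg, conj_Sig h1.2.1 hg, r1_conj h1.2.2 g⟩

/-- Pairs of endomorphisms, acted on by conjugation. -/
@[ext] structure Pr (k M : Type*) [Field k] [AddCommGroup M] [Module k M] where
  /-- first -/
  fst : M →ₗ[k] M
  /-- second -/
  snd : M →ₗ[k] M

instance act : MulAction GLM (Pr k M) where
  smul g x := ⟨cj g x.1, cj g x.2⟩
  one_smul x := Pr.ext (show cj 1 x.1 = _ by simp [cj_apply]) (show cj 1 x.2 = _ by simp [cj_apply])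
  mul_smul g h x := Pr.ext (cj_mul g h _) (cj_mul g h _)

theorem exists_hom {p : ℕ} [Fact p.Prime] [CharP k p] [Finite M] (h2 : (2 : k) ≠ 0) (h3 : Nat.card k ≠ 3) (hG : NU G)
    (hA : A ≤ G) (hN : ∀ α (h : QF G α), qu α h.sq ∈ N) (hc : (Nat.card A).Coprime (Nat.card N)) {η : EM}
    (hη : QF G η) (h0 : η ≠ 0) : ∃ Φ : SL(2, k) →* GLM, Φ.range ≤ N ⊓ centralizer A ∧ Φ.ker ≤ center _ := by
  have : Finite EM := DFunLike.finite _
  obtain ⟨α', h4⟩ := exists_mn hη h0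
  obtain ⟨β, h5, h6⟩ := hG.exists_opp h2 h3 h4
  obtain ⟨α, h7, h8, e1, e2⟩ := h6.partner h2 h3 h4 h5 h5.mem_eS h5.ne
  have h : PP G α β := ⟨h2, h3, (h4.of_eS h7 h8).1, h5, e1, e2⟩
  clear h4 h5 h6 h7 h8 e1 e2
  have hS := hG.rs h2 h3
  have hn := fun B => hG.ni h2 h3 (A := B)
  have hEN : ∀ a, EG G a ≤ N := fun a g hg => by
    obtain ⟨b, hb, rfl⟩ := mem_EG'.1 hg
    exact hN _ (eS_qf hb)
  set K := cmpG (Sg G) (EG G α) with hK
  have hle : ∀ B ∈ cmp (Sg G) (EG G α), B ≤ K := fun B hB => le_iSup₂_of_le B hB le_rfl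
  have hKG : K ≤ G := iSup₂_le fun B hB => Sig_le hB.1
  have hKN : K ≤ N := iSup₂_le fun B hB => by
    obtain ⟨a, -, rfl⟩ := mem_Sig.1 hB.1
    exact hEN a
  let Ω : Set (Pr k M) := {x | PP G x.1 x.2 ∧ EG G x.1 ∈ cmp (Sg G) (EG G α)}
  have hΩ : ∀ x ∈ Ω, EG G x.2 ∈ cmp (Sg G) (EG G α) := fun x hx =>
    cmp_r1 hx.2 hx.1.mb.mem_Sig (hx.1.opp.r1 h2 h3 hx.1.ma hx.1.mb)
  have hα : ⟨α, β⟩ ∈ Ω := ⟨h, mem_cmp_self h.ma.mem_Sig⟩
  have hβ := hle _ (hΩ _ hα)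
  have h9 : ∀ g ∈ G, conjBy (EG G α) g ∈ cmp (Sg G) (EG G α) → ∀ B ∈ cmp (Sg G) (EG G α),
      conjBy B g ∈ cmp (Sg G) (EG G α) := fun g hg h1 B hB => cmp_eq h1 ▸ cmp_cj hB hg
  have h10 : ∀ g ∈ A ⊓ normalizer K, conjBy (EG G α) g ∈ cmp (Sg G) (EG G α) := fun g hg => by
    by_contra h1
    have h4 := comm_gen fun B hB => hS.comm_of_not_mem hn hB (conj_Sig h.ma.mem_Sig (hA hg.1)) h1
    have h5 := comm_EG_iff.1 (comm_conjBy_iff.1 fun x hx => h4 x ((conjBy_eq_self_iff.2 hg.2).le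
      (conjBy_le_conjBy_iff.2 hβ hx))) β h.mb.mem_eS α h.ma.mem_eS
    exact h.ma.ne (by rw [← h.e1, ← h5, mul_assoc, h.ma.sq, mul_zero])
  have hact : ∀ g ∈ G, conjBy (EG G α) g ∈ cmp (Sg G) (EG G α) → ∀ x ∈ Ω, g • x ∈ Ω := fun g hg h1 x hx =>
    ⟨hx.1.cj hg, by have := h9 g hg h1 _ hx.2; rwa [conjBy_EG hg] at this⟩
  have hw : orderOf (h.w * h.w) = 2 := orderOf_eq_prime ((sq _).trans h.w_four) fun e => by
    have h1 := h.w_sq
    rw [e, Units.val_one, eq_comm, sub_eq_self, two_mul, ← two_smul k] at h1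
    exact h.ma.ne (by rw [← h.e1, ← gam_mul h.ma.sq, (smul_eq_zero.1 h1).resolve_left h2, zero_mul])
  have hwK := h.w_mem (hle _ hα.2) hβ
  obtain ⟨c, hcK, hfix⟩ := exists_fixed (A := A ⊓ normalizer K) (K := K) (Ω := Ω) inf_le_right
    ((hc.coprime_dvd_left (card_dvd_of_le inf_le_left)).coprime_dvd_right (card_dvd_of_le hKN))
    (hw ▸ K.orderOf_dvd_natCard (mul_mem hwK hwK)) (fun g hg => hact g (hA hg.1) (h10 g hg)) (fun x hx => by
      choose g hg e using fun i => cmp_exists_conj h.ma.mem_Sig (hx i).2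
      obtain ⟨i, j, hij, t, ht, e'⟩ := h.exists_conj (hle _ hα.2) hβ (x := fun i => cj (g i)⁻¹ (x i).1)
        (fun i => by
          have h1 := qu_mem_EG ((hx i).1.ma.cj (inv_mem (hKG (hg i)))).mem_eS
          have h4 : EG G (cj (g i)⁻¹ (x i).1) = EG G α := by
            rw [← conjBy_EG (inv_mem (hKG (hg i))), e, conjBy_inv_conjBy]
          have h5 := mem_EG.1 (h4.le h1)
          rwa [qu_val, add_sub_cancel_left] at h5)
        fun i => ((hx i).1.ma.cj (inv_mem (hKG (hg i)))).ne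
      have h1 := mul_mem (mul_mem (hg j) ht) (inv_mem (hg i))
      have h4 : cj (g j * t * (g i)⁻¹) (x i).1 = (x j).1 := by rw [cj_mul, cj_mul, e', cj_cj_inv]
      have h5 := hact _ (hKG h1) (hS.cmp_conj hn hα.2 (cmpG_le h1)) _ (hx i)
      obtain ⟨u, hu, h6, h7⟩ := (h4 ▸ h5.1 : PP G (x j).1 _).conj_partner (hx j).1 hKG (hle _ (hx j).2)
        (hle _ (hΩ _ h5)) (hle _ (hΩ _ (hx j)))
      exact ⟨i, j, hij, _, mul_mem hu h1, Pr.ext ((cj_mul _ _ _).trans (h4 ▸ h6)) ((cj_mul _ _ _).trans h7)⟩) hα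
  have h11 := hact _ (hKG hcK) (hS.cmp_conj hn hα.2 (cmpG_le hcK)) _ hα
  generalize c • (⟨α, β⟩ : Pr k M) = x at hfix h11
  obtain ⟨a, b⟩ := x
  have hp : PP G a b := h11.1
  let φ := (slHom hp.ma.sq hp.mb.sq hp.e1 hp.e2).toHomUnits
  have hu : ∀ t, (φ (uu t) : EM) - 1 = t • a := fun t => by simp [φ, slHom]; abel
  have hl : ∀ t, (φ (ll t) : EM) - 1 = t • b := fun t => by simp [φ, slHom]; abel
  have hφ : ∀ s, φ s ∈ EG G a ⊔ EG G b := fun s =>
    (sl2_eq_top_of_uu_ll ((EG G a ⊔ EG G b).comap φ) (fun t => mem_sup_left (by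
      rw [mem_EG, hu]; exact Submodule.smul_mem _ _ hp.ma.mem_eS)) fun t => mem_sup_right (by
      rw [mem_EG, hl]; exact Submodule.smul_mem _ _ hp.mb.mem_eS)).ge (mem_top s)
  obtain ⟨Φ, h12, h13⟩ := exists_diag (A := A) (K := K) (N := N) φ
    (fun s => sup_le (hle _ h11.2) (hle _ (hΩ _ h11)) (hφ s)) (fun g hg => by
      by_cases h1 : conjBy (EG G α) g ∈ cmp (Sg G) (EG G α)
      · have h4 := hfix g ⟨hg, conjBy_eq_self_iff.1 (eq_of_le_of_card_ge (by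
          rw [hK, conjBy_iSup]
          refine iSup_le fun B => ?_
          rw [conjBy_iSup]
          exact iSup_le fun hB => hle _ (h9 g (hA hg) h1 B hB)) (card_map_of_injective (MulEquiv.injective _)).ge)⟩
        refine .inl fun s => Units.ext ?_
        change cj g (slHom hp.ma.sq hp.mb.sq hp.e1 hp.e2 s) = _
        simp only [φ, slHom, MonoidHom.coe_mk, OneHom.coe_mk, MonoidHom.coe_toHomUnits, map_add, map_sub, map_mul,
          map_smul, map_one, show cj g a = a from congrArg Pr.fst h4, show cj g b = b from congrArg Pr.snd h4]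
      · have h4 : ∀ B ∈ cmp (Sg G) (EG G α), Comm K (conjBy B g) := fun B hB => comm_gen fun C hC =>
          hS.comm_of_not_mem hn hC (conj_Sig hB.1 (hA hg)) fun h5 => h1
            (cmp_eq h5 ▸ cmp_eq (cmp_cj hB (hA hg)) ▸ mem_cmp_self (conj_Sig h.ma.mem_Sig (hA hg)))
        refine .inr fun s y hy => ?_
        have h5 := conj_mem_conjBy (hφ s) g
        rw [conjBy_sup] at h5
        exact sup_le (c := centralizer {y}) (fun z hz => mem_centralizer_singleton_iff.2 (h4 _ h11.2 y hy z hz).symm)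
          (fun z hz => mem_centralizer_singleton_iff.2 (h4 _ (hΩ _ h11) y hy z hz).symm) h5 y rfl) fun g hg s => by
      have h5 := conj_mem_conjBy (hφ s) g
      rw [conjBy_sup, conjBy_EG (hA hg), conjBy_EG (hA hg)] at h5
      exact sup_le (hEN _) (hEN _) h5
  refine ⟨Φ, h12, (sl2_normal (three_lt_card h2 h3) _ inferInstance).resolve_left fun e => ?_⟩
  have h14 := h13 (uu 1) (e.ge (mem_top _)) _ (hle _ (hΩ _ h11) (qu_mem_EG hp.mb.mem_eS))
  rw [show φ (uu 1) = qu a hp.ma.sq from Units.ext (by rw [qu_val, ← one_smul k a, ← hu, add_sub_cancel])] at h14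
  exact hp.ma.ne (by rw [← hp.e1, ← qu_comm.1 h14, mul_assoc, hp.ma.sq, mul_zero])

end CfsgLib.EqZJ
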